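import Groth.Agent.CurvesC.CurveNum
import Groth.Agent.Sga67.DVRConn
import Groth.Agent.Flat2B.SmoothGeom

/-!
# `H^0(X, O_X) = k` for geometrically integral proper schemes
-/

set_option autoImplicit false
universe u

open AlgebraicGeometry CategoryTheory CategoryTheory.Limits

namespace K314.H0One

open Groth.Agent.CurvesC.CurveNum

attribute [local instance] topMod

/-- If `k → Γ(X, O_X)` is bijective, `dim_k H^0(X, O_X) = 1`. -/
theorem finrank_eq_one_of_bijective (k : Type u) [Field k] (X : Scheme.{u}) [X.Over (Spec (CommRingCat.of k))]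
    (h : Function.Bijective (Coh.toGlobal (X ↘ Spec (CommRingCat.of k)))) :
    Module.finrank k (Coh.HH X (Coh.structureModule X) 0) = 1 := by
  rw [(hZeroTop k X).finrank_eq]
  let e : k ≃ₗ[k] Coh.Γtop X := LinearEquiv.ofBijective
    { toFun := Coh.toGlobal (X ↘ Spec (CommRingCat.of k))
      map_add' := map_add _
      map_smul' := fun a b => by
        change Coh.toGlobal (X ↘ Spec (CommRingCat.of k)) (a * b) = Coh.toGlobal (X ↘ Spec (CommRingCat.of k)) a *
          Coh.toGlobal (X ↘ Spec (CommRingCat.of k)) b
        rw [map_mul] } h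
  rw [← e.finrank_eq, Module.finrank_self]

theorem bijective_toGlobal_of_appTop {A : Type u} [CommRing A] {X : Scheme.{u}} (f : X ⟶ Spec (CommRingCat.of A))
    (h : Function.Bijective f.appTop) : Function.Bijective (Coh.toGlobal f) :=
  h.comp (Scheme.ΓSpecIso (CommRingCat.of A)).symm.commRingCatIsoToRingEquiv.bijective

/-- `H^0(X, O_X) = k` for a geometrically integral proper scheme. -/
theorem finrank_eq_one_of_geometricallyIntegral (k : Type u) [Field k] (X : Scheme.{u})
    [X.Over (Spec (CommRingCat.of k))] [IsProper (X ↘ Spec (CommRingCat.of k))]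
    [GeometricallyIntegral (X ↘ Spec (CommRingCat.of k))] :
    Module.finrank k (Coh.HH X (Coh.structureModule X) 0) = 1 :=
  finrank_eq_one_of_bijective k X (bijective_toGlobal_of_appTop _
    (Groth.Agent.Sga67.DVRConn.appTop_bijective_of_field k X (X ↘ Spec (CommRingCat.of k))))

/-- `H^0(X, O_X) = k` for a smooth geometrically irreducible proper scheme. -/
theorem finrank_eq_one_of_smooth (k : Type u) [Field k] (X : Scheme.{u})
    [X.Over (Spec (CommRingCat.of k))] [IsProper (X ↘ Spec (CommRingCat.of k))]
    [Smooth (X ↘ Spec (CommRingCat.of k))] [GeometricallyIrreducible (X ↘ Spec (CommRingCat.of k))] :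
    Module.finrank k (Coh.HH X (Coh.structureModule X) 0) = 1 := by
  have := Groth.Agent.Flat2B.SmoothGeom.geometricallyIntegral_of_smooth (X ↘ Spec (CommRingCat.of k))
  exact finrank_eq_one_of_geometricallyIntegral k X

end K314.H0One
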