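import Groth.Agent.Dual.H324.InvLoc
import Groth.Agent.Dual.H342.HypField
import Groth.Agent.PerfA.Restrict
import Groth.Agent.S3637
import Groth.Agent.Dcoh.StalkRestrict
import Groth.Agent.VarietyA.StalkCrit

/-!
# The dualizing module of an equidimensional Gorenstein scheme proper over a field is invertible
-/

set_option autoImplicit false
universe u v w
open CategoryTheory CategoryTheory.Limits AlgebraicGeometry TopologicalSpace
attribute [local instance] HasDerivedCategory.standard

namespace K314.GorInv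

open Groth.Agent Groth.Agent.PerfA.Restrict

section Abstract

variable {A : Type u} [Category.{v} A] [Abelian A] [HasDerivedCategory.{w} A]

noncomputable def homologySingleIso (n : ℤ) (X : A) :
    (DerivedCategory.homologyFunctor A n).obj ((DerivedCategory.singleFunctor A n).obj X) ≅ X :=
  (DerivedCategory.homologyFunctorFactors A n).app ((HomologicalComplex.single A _ n).obj X) ≪≫
    HomologicalComplex.singleObjHomologySelfIso (ComplexShape.up ℤ) n X

lemma isZero_homology_single (n i : ℤ) (h : i ≠ n) (X : A) :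
    IsZero ((DerivedCategory.homologyFunctor A i).obj ((DerivedCategory.singleFunctor A n).obj X)) := by
  rcases lt_or_gt_of_ne h with h | h
  · exact DerivedCategory.isZero_of_isGE _ n i h
  · exact DerivedCategory.isZero_of_isLE _ n i h

end Abstract

variable {X : Scheme.{u}}

/-- A complex which is locally a shift of the structure sheaf has invertible cohomology in a degree in which all its
stalks are nonzero. -/
theorem isInvertible_HD (K : DCoh.D X) (m : ℤ)
    (h : ∀ x : X, ∃ (U : X.Opens) (n : ℤ), x ∈ U ∧ Nonempty ((restrictD U.ι).obj K ≅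
      (DCoh.inD (U : Scheme.{u}) (Coh.structureModule (U : Scheme.{u})))⟦n⟧))
    (hne : ∀ x : X, Nontrivial ((DCoh.HD K m).presheaf.stalk x)) : PicF.IsInvertible (DCoh.HD K m) := by
  intro x
  obtain ⟨U, n, hx, ⟨e⟩⟩ := h x
  let e1 : (DCoh.HD K m).restrict U.ι ≅ (DerivedCategory.homologyFunctor (U : Scheme.{u}).Modules m).obj
      ((DerivedCategory.singleFunctor (U : Scheme.{u}).Modules (-n)).obj
        (Coh.structureModule (U : Scheme.{u}))) :=
    (HDrestrict U.ι K m).symm ≪≫ (DerivedCategory.homologyFunctor (U : Scheme.{u}).Modules m).mapIso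
      (e ≪≫ Dual.H324.InvLoc.shiftOSingle (U : Scheme.{u}) n)
  by_cases hm : m = -n
  · subst hm
    exact ⟨U, hx, ⟨e1 ≪≫ homologySingleIso (-n) _⟩⟩
  · exfalso
    have hz : IsZero ((DCoh.HD K m).restrict U.ι) := (isZero_homology_single (-n) m hm _).of_iso e1
    have hz2 : Subsingleton ((DCoh.HD K m).presheaf.stalk x) :=
      have := VarietyA.StalkCrit.stalk_of_isZero hz ⟨x, hx⟩
      (Dcoh.StalkRestrict.ρ U.ι (DCoh.HD K m) ⟨x, hx⟩).symm.toEquiv.subsingleton
    have := hne x
    exact not_subsingleton _ hz2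

section Proper

variable (k : Type u) [Field k] (X : Scheme.{u}) (f : X ⟶ Spec (CommRingCat.of k)) [IsProper f]
  (hG : ∀ x : X, LocCoh.IsGorensteinLocalRing (X.presheaf.stalk x))
  (hCM : ∀ x : X, LocCoh.IsCohenMacaulayLocalRing (X.presheaf.stalk x)) (d : ℕ)
  (hd : ∀ Z : Set X, Z ∈ irreducibleComponents X → topologicalKrullDim ↥Z = (d : WithBot ℕ∞))
  [DCoh.HasRpush f] (hf : DCoh.RpushPreservesQCoh f)

include hG hCM hd in
/-- **The dualizing module of a Gorenstein scheme proper over a field, equidimensional, is invertible.** -/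
theorem isInvertible_of_adj (a : DCoh.DQCoh (Spec (CommRingCat.of k)) ⥤ DCoh.DQCoh X)
    (adj : DCoh.RpushQ f hf ⊣ a) (O : DCoh.DQCoh (Spec (CommRingCat.of k)))
    (hO : Nonempty (O.obj ≅ DCoh.inD (Spec (CommRingCat.of k)) (Coh.structureModule (Spec (CommRingCat.of k))))) :
    PicF.IsInvertible (DCoh.HD (a.obj O).obj (-(d : ℤ))) := by
  have hN : IsLocallyNoetherian X := LocallyOfFiniteType.isLocallyNoetherian f
  have hK := Dual.H342.HypField.isDualizingSch k X f hf a adj O hO
  obtain ⟨-, -, hne⟩ := S3637.result k X f hCM d hd hf a adj O hO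
  refine isInvertible_HD _ _ (fun x => ?_) fun x => (hne x).1
  obtain ⟨A, _, _, j, _, p, rfl, -⟩ := Dual.H324.InvLoc.exists_chart_le x ⊤ trivial
  obtain ⟨ω, hω, ⟨e⟩⟩ := hK A j
  exact Dual.H324.InvLoc.exists_nhd _ j p hω e (hG (j p))

include hG hCM hd in
theorem isInvertible_dualizingMod [DCoh.HasShriek f hf] (O : DCoh.DQCoh (Spec (CommRingCat.of k)))
    (hO : Nonempty (O.obj ≅ DCoh.inD (Spec (CommRingCat.of k)) (Coh.structureModule (Spec (CommRingCat.of k))))) :
    PicF.IsInvertible (DCoh.dualizingMod f hf O d) :=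
  isInvertible_of_adj k X f hG hCM d hd hf _ (DCoh.shriekAdj f hf) O hO

end Proper

end K314.GorInv
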