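import Groth.Agent.Curves.K327.GGTensor
import Groth.Agent.AbVar.K817.VeryAmple
import Groth.Agent.CurvesB.SubPoint
import Groth.Agent.Fga.HShift

/-!
# Very ampleness of the square of a globally generated ample invertible module with `H^1 = 0` on a curve
-/

set_option autoImplicit false
universe u
open CategoryTheory CategoryTheory.Limits AlgebraicGeometry

namespace K314.PowVan

open Groth.Agent Groth.Agent.CohqB.HSeqMod

/-- `L` globally generated with `H^1(L) = 0` on a Noetherian scheme of dimension at most one: `H^1(L^n) = 0` for all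
`n ≥ 1`. -/
theorem subsingleton_H1_pow {X : Scheme.{u}} [IsNoetherian X] (hdim : topologicalKrullDim X ≤ 1) {L : X.Modules}
    (hL : PicF.IsInvertible L) (hgg : Curv2.IsGloballyGenerated L) (h1 : Subsingleton (Coh.HH X L 1)) (n : ℕ) :
    Subsingleton (Coh.HH X (CohB1.tensorPow L (n + 1)) 1) := by
  induction n with
  | zero => exact Fga.HShift.subsingleton_of_iso (Ega2.Tens.lunit L).symm 1 h1
  | succ n ih =>
    have h2 := Curves.K327.GGTensor.subsingleton_H1_tensor hdim (CurvesB.SubPoint.isCoh_of_isInvertible hL) hgg ih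
    exact Fga.HShift.subsingleton_of_iso (Ega2.Tens.swap _ _) 1 h2

theorem nonempty_of_dim {X : Scheme.{u}} (hdim : topologicalKrullDim X = 1) : Nonempty X := by
  by_contra h
  rw [not_nonempty_iff] at h
  have h2 : IsEmpty (TopologicalSpace.IrreducibleCloseds X) := ⟨fun Z => by
    obtain ⟨x, -⟩ := Z.2.nonempty
    exact h.elim x⟩
  have h3 : topologicalKrullDim X = ⊥ := Order.krullDim_eq_bot
  rw [h3] at hdim
  exact absurd hdim (by simp)

/-- `L^2` is very ample on a proper curve if `L` is ample, globally generated, `H^1(L) = 0`. -/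
theorem exists_veryAmple_sq (k : Type u) [Field k] (X : Scheme.{u}) [X.Over (Spec (CommRingCat.of k))]
    [IsProper (X ↘ (Spec (CommRingCat.of k)))] (hdim : topologicalKrullDim X = 1) (L : X.Modules)
    (hgg : Curv2.IsGloballyGenerated L) (h1 : Subsingleton (Coh.HH X L 1)) (hample : CohB1.IsAmple L) :
    ∃ (n : ℕ) (i : X ⟶ CohB1.ProjSpace n k), IsClosedImmersion i ∧
      i ≫ CohB1.ProjSpace.toSpec n k = X ↘ (Spec (CommRingCat.of k)) ∧
      Nonempty ((Scheme.Modules.pullback i).obj (Twist.twistProjSpace n k 1) ≅ CohB1.tensorPow L 2) := by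
  have hN := K817.VeryAmple.isNoetherian k X
  have hne := nonempty_of_dim hdim
  obtain ⟨N, f, hf, hf2, hf3, -⟩ := K817.VeryAmple.exists_closedImmersion k X 1 hdim.le L hample hgg 2 (by norm_num)
    (by norm_num) (fun n hn j hj1 hj2 => by
      obtain rfl : j = 1 := le_antisymm hj2 hj1
      obtain ⟨m, rfl⟩ : ∃ m, n = m + 2 := ⟨n - 2, by omega⟩
      exact subsingleton_H1_pow hdim.le hample.1 hgg h1 m)
  exact ⟨N, f, hf, hf2, hf3⟩

end K314.PowVan
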