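import Groth.Agent.Models.H55.PtDeg
import Groth.Agent.CurvesA.CurveDvr
import Groth.Agent.CurvesA.DimOne
import Groth.Prelude.Def_Curv2
import Mathlib.GroupTheory.Archimedean

/-!
# The degree of a regular closed point of a curve, any residue field

A closed point `y` of an integral proper curve whose local ring has principal maximal ideal gives an invertible
module of degree `[κ(y) : k]`.
-/

set_option autoImplicit false
universe u

open AlgebraicGeometry CategoryTheory CategoryTheory.Limits IsLocalRing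
open Groth.Agent.Divis.CartierBasic Groth.Agent.Divis.CartierStalk Groth.Agent.Dix.InterNum
open Groth.Agent.Dix.IdealModCartier Groth.Agent.Models.H55.PtDeg

namespace K314.PointDeg

attribute [local instance] Curv2.resAlgebra

/-- `dim_k Γ(Spec κ(y), O) = [κ(y) : k]`. -/
theorem h0_fromSpecResidueField (k : Type u) [Field k] (Y : Scheme.{u}) [Y.Over (Spec (CommRingCat.of k))] (y : Y) :
    h0 (Y.fromSpecResidueField y ≫ (Y ↘ Spec (CommRingCat.of k))) = Module.finrank k (Y.residueField y) := by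
  let m1 : Module k Γ(Spec (Y.residueField y), ⊤) :=
    Module.compHom _ (glo (Y.fromSpecResidueField y ≫ (Y ↘ Spec (CommRingCat.of k))))
  let E : (Y.residueField y) ≃+* Γ(Spec (Y.residueField y), ⊤) :=
    (Scheme.ΓSpecIso (Y.residueField y)).symm.commRingCatIsoToRingEquiv
  have hE : ∀ t : k, E (algebraMap k (Y.residueField y) t) =
      glo (Y.fromSpecResidueField y ≫ (Y ↘ Spec (CommRingCat.of k))) t := by
    intro t
    rw [glo_comp, fromSpecResidueField_appTop]
    rfl
  let e' : (Y.residueField y) ≃ₗ[k] Γ(Spec (Y.residueField y), ⊤) :=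
    { E.toAddEquiv with
      map_smul' := fun t x => by
        change E (t • x) = glo (Y.fromSpecResidueField y ≫ (Y ↘ Spec (CommRingCat.of k))) t * E x
        rw [Algebra.smul_def, map_mul, hE] }
  exact e'.finrank_eq.symm

/-- The ideal of a closed point: its quotient has `dim_k H^0 = [κ(y) : k]`. -/
theorem finrank_quotMod_point (k : Type u) [Field k] (Y : Scheme.{u}) [Y.Over (Spec (CommRingCat.of k))] (y : Y)
    [IsClosedImmersion (Y.fromSpecResidueField y)] :
    Module.finrank k (Coh.HH Y (ClSub.quotMod (Y.fromSpecResidueField y).ker) 0) =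
      Module.finrank k (Y.residueField y) := by
  rw [finrank_quotMod, ← h0_fromSpecResidueField]
  refine h0_congr _ _ (asIso (Y.fromSpecResidueField y).toImage).symm ?_
  rw [Iso.symm_hom, asIso_inv, IsIso.inv_comp_eq, ← Category.assoc]
  congr 1
  exact ((Y.fromSpecResidueField y).toImage_imageι).symm

/-- A closed point whose local ring has principal nonzero maximal ideal gives an invertible module of degree
`[κ(y) : k]`. -/
theorem exists_invertible_deg (k : Type u) [Field k] (Y : Scheme.{u}) [Y.Over (Spec (CommRingCat.of k))]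
    [IsIntegral Y] [IsProper (Y ↘ Spec (CommRingCat.of k))] (hdim : topologicalKrullDim Y = 1) (y : Y)
    (hy : IsClosed ({y} : Set Y)) (ϖ : Y.presheaf.stalk y) (hϖ : maximalIdeal (Y.presheaf.stalk y) = Ideal.span {ϖ})
    (hϖ0 : ϖ ≠ 0) :
    ∃ L : Y.Modules, PicF.IsInvertible L ∧ Curv2.deg k Y L 1 = Module.finrank k (Y.residueField y) := by
  have hcl : IsClosedImmersion (Y.fromSpecResidueField y) := isClosed_singleton_iff_isClosedImmersion.mp hy
  have hn : IsLocallyNoetherian Y := LocallyOfFiniteType.isLocallyNoetherian (Y ↘ Spec (CommRingCat.of k))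
  let D := (Y.fromSpecResidueField y).ker
  have hD : BlowUp.IsEffCartierIdeal D := isEff_ker_fromSpecResidueField y ϖ hϖ hϖ0
  obtain ⟨L, hL, ⟨e⟩⟩ := Groth.Agent.Grpsch.PicGrp.exists_inverse (isInvertible_idealMod hD)
  have hLD : ClSub.IsInverseOf L (ClSub.idealMod D) := ⟨Groth.Agent.Ega2.Tens.swap L (ClSub.idealMod D) ≪≫ e⟩
  refine ⟨L, hL, ?_⟩
  rw [deg_of_effCartier k Y hdim D hD L hLD, finrank_quotMod_point]

/-- The group of degrees of invertible modules on a proper integral curve. -/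
noncomputable def degGroup (k : Type u) [Field k] (Y : Scheme.{u}) [Y.Over (Spec (CommRingCat.of k))]
    [IsIntegral Y] [IsProper (Y ↘ Spec (CommRingCat.of k))] (hdim : topologicalKrullDim Y = 1) : AddSubgroup ℤ where
  carrier := {d | ∃ L : Y.Modules, PicF.IsInvertible L ∧ Curv2.deg k Y L 1 = d}
  zero_mem' := ⟨Coh.structureModule Y, Groth.Agent.Fdesc.LocGen.isInvertible_structureModule, deg_unit k Y⟩
  add_mem' := by
    rintro a b ⟨L, hL, rfl⟩ ⟨M, hM, rfl⟩
    exact ⟨CohB1.tensorMod L M, Groth.Agent.Fdesc.LocGen.isInvertible_tensorMod hL hM, deg_tensor k Y hdim hL hM⟩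
  neg_mem' := by
    rintro a ⟨L, hL, rfl⟩
    obtain ⟨M, hM, ⟨e⟩⟩ := Groth.Agent.Grpsch.PicGrp.exists_inverse hL
    refine ⟨M, hM, ?_⟩
    exact deg_inverse k Y hdim ⟨Groth.Agent.Ega2.Tens.swap M L ≪≫ e⟩

/-- If the residue degrees of some regular closed points have greatest common divisor one, some invertible module
has degree one. -/
theorem exists_deg_one_of_gcd (k : Type u) [Field k] (Y : Scheme.{u}) [Y.Over (Spec (CommRingCat.of k))]
    [IsIntegral Y] [IsProper (Y ↘ Spec (CommRingCat.of k))] (hdim : topologicalKrullDim Y = 1)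
    (s : Finset ℕ) (hs : ∀ d ∈ s, ∃ L : Y.Modules, PicF.IsInvertible L ∧ Curv2.deg k Y L 1 = (d : ℤ))
    (hgcd : s.gcd id = 1) : ∃ L : Y.Modules, PicF.IsInvertible L ∧ Curv2.deg k Y L 1 = 1 := by
  obtain ⟨a, ha⟩ := Int.subgroup_cyclic (degGroup k Y hdim)
  have hdvd : ∀ d ∈ s, a.natAbs ∣ d := by
    intro d hd
    have h1 : (d : ℤ) ∈ degGroup k Y hdim := hs d hd
    rw [ha, AddSubgroup.mem_closure_singleton] at h1
    obtain ⟨n, hn⟩ := h1
    rw [← Int.natCast_dvd_natCast, Int.natAbs_dvd]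
    exact ⟨n, by rw [← hn, smul_eq_mul, mul_comm]⟩
  have h1 : a.natAbs ∣ 1 := by
    rw [← hgcd]
    exact Finset.dvd_gcd hdvd
  have h2 : (1 : ℤ) ∈ degGroup k Y hdim := by
    rw [ha, AddSubgroup.mem_closure_singleton]
    have h3 : a ∣ 1 := by
      rw [← Int.natAbs_dvd]
      exact_mod_cast h1
    obtain ⟨c, hc⟩ := h3
    exact ⟨c, by rw [smul_eq_mul, mul_comm]; exact hc.symm⟩
  exact h2

/-- If some invertible module has degree `-2` and another one odd degree, some invertible module has degree one. -/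
theorem exists_deg_one_of_odd (k : Type u) [Field k] (Y : Scheme.{u}) [Y.Over (Spec (CommRingCat.of k))]
    [IsIntegral Y] [IsProper (Y ↘ Spec (CommRingCat.of k))] (hdim : topologicalKrullDim Y = 1)
    (h2 : ∃ M : Y.Modules, PicF.IsInvertible M ∧ Curv2.deg k Y M 1 = -2) {d : ℤ}
    (hd : ∃ L : Y.Modules, PicF.IsInvertible L ∧ Curv2.deg k Y L 1 = d) (hodd : Odd d) :
    ∃ L : Y.Modules, PicF.IsInvertible L ∧ Curv2.deg k Y L 1 = 1 := by
  have h3 : (-2 : ℤ) ∈ degGroup k Y hdim := h2
  have h4 : d ∈ degGroup k Y hdim := hd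
  obtain ⟨m, hm⟩ := hodd
  have h5 : (1 : ℤ) ∈ degGroup k Y hdim := by
    have h6 := (degGroup k Y hdim).add_mem h4 ((degGroup k Y hdim).zsmul_mem h3 m)
    have h7 : d + m • (-2 : ℤ) = 1 := by rw [hm, smul_eq_mul]; ring
    rwa [h7] at h6
  exact h5

/-- On an integral locally Noetherian scheme of dimension one, a closed point whose local ring is normal has
principal nonzero maximal ideal. -/
theorem exists_uniformizer {Y : Scheme.{u}} [IsIntegral Y] [IsLocallyNoetherian Y] (hdim : topologicalKrullDim Y = 1)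
    (y : Y) (hy : IsClosed ({y} : Set Y)) (hn : IsIntegrallyClosed (Y.presheaf.stalk y)) :
    ∃ ϖ : Y.presheaf.stalk y, maximalIdeal (Y.presheaf.stalk y) = Ideal.span {ϖ} ∧ ϖ ≠ 0 := by
  have h1 : ¬ IsField (Y.presheaf.stalk y) := fun h =>
    (Groth.Agent.CurvesA.CurveDvr.isClosed_singleton_iff hdim y).1 hy
      (Groth.Agent.CurvesA.CurveDvr.eq_genericPoint_of_isField h)
  have h2 : ringKrullDim (Y.presheaf.stalk y) ≤ 1 :=
    (Groth.Agent.CurvesA.DimOne.ringKrullDim_stalk_le Y y).trans hdim.le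
  have h3 : Ring.KrullDimLE 1 (Y.presheaf.stalk y) := by
    rw [Ring.krullDimLE_iff]
    exact_mod_cast h2
  have h4 : ∀ P : Ideal (Y.presheaf.stalk y), P ≠ ⊥ → P.IsPrime → P = maximalIdeal (Y.presheaf.stalk y) := by
    intro P hP hP'
    have h5 : P.IsMaximal := Ring.krullDimLE_one_iff_of_noZeroDivisors.mp h3 P hP hP'
    exact eq_maximalIdeal h5
  have h6 : (maximalIdeal (Y.presheaf.stalk y)).IsPrincipal :=
    ((tfae_of_isNoetherianRing_of_isLocalRing_of_isDomain (Y.presheaf.stalk y)).out 3 4 :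
      (IsIntegrallyClosed (Y.presheaf.stalk y) ∧ ∀ P : Ideal (Y.presheaf.stalk y), P ≠ ⊥ → P.IsPrime →
        P = maximalIdeal (Y.presheaf.stalk y)) ↔ (maximalIdeal (Y.presheaf.stalk y)).IsPrincipal).1 ⟨hn, h4⟩
  obtain ⟨ϖ, hϖ⟩ := h6
  refine ⟨ϖ, hϖ, ?_⟩
  rintro rfl
  apply h1
  rw [isField_iff_maximalIdeal_eq, hϖ]
  exact Ideal.span_singleton_eq_bot.2 rfl

end K314.PointDeg
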