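import Groth.Agent.Fga.RegSec
import Groth.Agent.CurvesB.SubH1
import Groth.Agent.CurvesB.SubPoint
import Groth.Agent.CycB.ModStalk
import Groth.Agent.Dcoh.StalkMod
import Groth.Agent.S2315
import Groth.Agent.Ega2.AmpleWeight
import Groth.Agent.Ega2.GlobGenCrit
import Groth.Agent.Fga.HShift

/-!
# Regular sections of invertible modules on curves

* `mem_genLocus_of_mono`: a regular section of an invertible module generates it at the generic points.
* `surjective_H1_mulS`: multiplication by a section which generates at the generic points is surjective on `H^1`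
  (dimension at most one).
* `isGloballyGenerated_tensor`: if `N = L ⊗ G`, `H^1(G) = 0`, and each point where the section `s` of `L` does not
  generate is no base point of `N`, then `N` is globally generated.
-/

set_option autoImplicit false
universe u
open CategoryTheory CategoryTheory.Limits AlgebraicGeometry TopologicalSpace Opposite

namespace K314.RegPow

open Groth.Agent Groth.Agent.Fga.RegSec Groth.Agent.Fdesc.LocGen Groth.Agent.CycB.StalkExact
open Groth.Agent.CurvesB Groth.Agent.CurvesB.SubH1 Groth.Agent.CohqB.HSeqMod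

variable {X : Scheme.{u}}

theorem closure_mem_irreducibleComponents {ξ : X} (h : SubH1.IsGen ξ) :
    closure ({ξ} : Set X) ∈ irreducibleComponents (X : Type u) := by
  refine ⟨isIrreducible_singleton.closure, fun Z hZ hle => ?_⟩
  have hg := hZ.isGenericPoint_genericPoint_closure
  have h1 : hZ.genericPoint ⤳ ξ :=
    hg.specializes (subset_closure (hle (subset_closure rfl)))
  rw [h _ h1] at hg
  have h2 : closure {ξ} = closure Z := hg
  exact h2.ge.trans' subset_closure

theorem isArtinianRing_stalk [IsLocallyNoetherian X] {ξ : X} (h : SubH1.IsGen ξ) :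
    IsArtinianRing (X.presheaf.stalk ξ) :=
  S2315.isArtinianRing_stalk X ξ (closure_mem_irreducibleComponents h)

/-- A regular section generates at the generic points. -/
theorem mem_genLocus_of_mono [IsLocallyNoetherian X] {N : X.Modules} (hN : PicF.IsInvertible N)
    (s : Coh.structureModule X ⟶ N) [Mono s] {ξ : X} (hξ : SubH1.IsGen ξ) : ξ ∈ CohB1.genLocus N s := by
  by_contra hcon
  obtain ⟨U, hxU, e, a, he, ha, -, hmax⟩ := exists_gen_of_not_mem s hN hcon
  have hA := isArtinianRing_stalk hξ
  have hnz : X.presheaf.germ U ξ hxU a ∈ nonZeroDivisors (X.presheaf.stalk ξ) := by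
    rw [mem_nonZeroDivisors_iff_right]
    intro b hb
    have h1 : stalkLin s ξ (b • (Coh.structureModule X).presheaf.germ U ξ hxU (one U)) = 0 := by
      rw [map_smul, stalkLin_germ]
      have h2 : s.app U (one U) = a • e := ha
      rw [h2, CycB.ModStalk.germ_smul, smul_smul, hb, zero_smul]
    have h3 := stalkLin_injective s ξ (h1.trans (map_zero _).symm)
    have h4 : CycB.ModStalk.IsGen (Coh.structureModule X) ξ
        ((Coh.structureModule X).presheaf.germ U ξ hxU (one U)) :=
      CycB.ModStalk.IsGenOn.isGen (fun V hV => (isGen_one U) V hV) ξ hxU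
    exact h4.1 (by beta_reduce; rw [h3, zero_smul])
  exact hmax (IsArtinianRing.isUnit_of_mem_nonZeroDivisors hnz)

theorem isSmall_cokernel_mulS {N : X.Modules} (s : Coh.structureModule X ⟶ N)
    (hs : ∀ ξ : X, SubH1.IsGen ξ → ξ ∈ CohB1.genLocus N s) (F : X.Modules) : IsSmall (cokernel (mulS s F)) := by
  intro ξ hξ
  have h1 := isIso_stalk_mulS s F (hs ξ hξ)
  have h2 := not_mem_support_cokernel (mulS s F) (x := ξ) inferInstance
  by_contra h
  exact h2 h

/-- A morphism whose cokernel is small is surjective on `H^1`. -/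
theorem surjective_H1_of_small [IsNoetherian X] (hdim : topologicalKrullDim X ≤ 1) {F G : X.Modules}
    (f : F ⟶ G) (hG : CohB1.IsFT G) (h : IsSmall (cokernel f)) : Function.Surjective (hmap f 1) :=
  hmap_one_surjective_of_cokernel hdim f
    (subsingleton_of_isSmall hdim _ (CohqB.LocalQC.isFT_of_epi (cokernel.π f) hG) h 0)

theorem surjective_H1_mulS [IsNoetherian X] (hdim : topologicalKrullDim X ≤ 1) {N : X.Modules}
    (s : Coh.structureModule X ⟶ N) (hs : ∀ ξ : X, SubH1.IsGen ξ → ξ ∈ CohB1.genLocus N s) (F : X.Modules)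
    (hF : CohB1.IsFT (CohB1.tensorMod N F)) : Function.Surjective (hmap (mulS s F) 1) :=
  surjective_H1_of_small hdim _ hF (isSmall_cokernel_mulS s hs F)

section Vanishing

open Groth.Agent.CurvesB.SubPoint

variable {L G : X.Modules}

/-- Multiplication by a section not generating at `w` has image in `m_w` at `w`. -/
theorem stalkLin_mulS_mem (hL : PicF.IsInvertible L) (s : Coh.structureModule X ⟶ L) (G : X.Modules) {w : X}
    (hw : w ∉ CohB1.genLocus L s) (t : G.presheaf.stalk w) :
    stalkLin (mulS s G) w t ∈ IsLocalRing.maximalIdeal (X.presheaf.stalk w) •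
      (⊤ : Submodule (X.presheaf.stalk w) ((CohB1.tensorMod L G).presheaf.stalk w)) := by
  obtain ⟨U, hxU, e, a, he, ha, -, hmax⟩ := exists_gen_of_not_mem s hL hw
  obtain ⟨V, hxV, f, rfl⟩ := TopCat.Presheaf.exists_germ_eq G.presheaf t
  have hx' : w ∈ V ⊓ U := ⟨hxV, hxU⟩
  have h1 : G.presheaf.germ V w hxV f = G.presheaf.germ (V ⊓ U) w hx' (res G inf_le_left f) :=
    (germ_res' G inf_le_left hx' f).symm
  rw [h1, stalkLin_germ, mulS_app, ← res_sec s (inf_le_right : V ⊓ U ≤ U), ha, res_smul, smul_tmul,
    CycB.ModStalk.germ_smul]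
  refine Submodule.smul_mem_smul ?_ trivial
  have h2 : X.presheaf.germ (V ⊓ U) w hx' (ores inf_le_right a) = X.presheaf.germ U w hxU a :=
    TopCat.Presheaf.germ_res_apply _ _ _ _ _
  rw [h2]
  exact hmax

/-- `H^1(G) = 0`, `s` a section of `L` generating at the generic points: the sections of `L ⊗ G` do not vanish at
the closed points where `s` does not generate. -/
theorem mem_genLocus_of_vanAt [IsNoetherian X] (hdim : topologicalKrullDim X ≤ 1) (hL : PicF.IsInvertible L)
    (hG : PicF.IsInvertible G) (s : Coh.structureModule X ⟶ L)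
    (hs : ∀ ξ : X, SubH1.IsGen ξ → ξ ∈ CohB1.genLocus L s) (h1 : Subsingleton (Coh.HH X G 1)) {w : X}
    (hw : IsClosed ({w} : Set X)) (hv : VanAt (CohB1.tensorMod L G) w) : w ∈ CohB1.genLocus L s := by
  by_contra hcon
  let N := CohB1.tensorMod L G
  have hN : PicF.IsInvertible N := isInvertible_tensorMod hL hG
  have hNc : Coh.IsCoh N := isCoh_of_isInvertible hN
  have hne : ¬ Subsingleton (N.presheaf.stalk w) := by
    intro h
    obtain ⟨t, ht⟩ := CycB.ModStalk.exists_isGen hN w
    exact one_ne_zero (ht.1 (Subsingleton.elim _ _) : (1 : X.presheaf.stalk w) = 0)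
  obtain ⟨S, π, hπ, hS, hS0, hker, hkill, hnt⟩ := exists_point_quotient w hw N hNc hne
  have hcomp : mulS s G ≫ π = 0 := by
    refine Dcoh.StalkMod.hom_ext_stalk _ _ fun x => LinearMap.ext fun t => ?_
    by_cases hx : x = w
    · subst hx
      have h1 := Submodule.mem_map_of_mem (f := stalkLin π x) (stalkLin_mulS_mem hL s G hcon t)
      rw [Submodule.map_smul''] at h1
      have h2 : IsLocalRing.maximalIdeal (X.presheaf.stalk x) •
          (⊤ : Submodule (X.presheaf.stalk x) (S.presheaf.stalk x)) ≤ ⊥ := by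
        rw [Submodule.smul_le]
        intro a ha t _
        rw [hkill a ha t]
        exact Submodule.zero_mem _
      have h3 := (Submodule.mem_bot _).mp (h2 (Submodule.smul_mono le_rfl le_top h1))
      rw [stalkLin_comp]
      refine h3.trans ?_
      obtain ⟨V, hxV, f, rfl⟩ := TopCat.Presheaf.exists_germ_eq G.presheaf t
      rw [stalkLin_germ]
      exact (map_zero _).symm
    · exact (hS0 x hx).elim _ _
  let φ : G ⟶ kernel π := kernel.lift π (mulS s G) hcomp
  have hφ : φ ≫ kernel.ι π = mulS s G := kernel.lift_ι _ _ _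
  have hK : Coh.IsCoh (kernel π) := CycB.CohProp.isCoh_kernel π hNc hS
  have hsm : IsSmall (cokernel φ) := by
    intro ξ hξ
    refine (VarietyA.StalkCrit.subsingleton_cokernel_stalk_iff φ ξ).mpr fun y => ?_
    have h2 := isIso_stalk_mulS s G (hs ξ hξ)
    have h3 : Function.Surjective (stalkLin (mulS s G) ξ) :=
      ((ConcreteCategory.isIso_iff_bijective _).mp h2).2
    obtain ⟨g, hg⟩ := h3 (stalkLin (kernel.ι π) ξ y)
    refine ⟨g, stalkLin_injective (kernel.ι π) ξ ?_⟩
    rw [← hg, ← hφ, stalkLin_comp]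
    rfl
  have h4 := surjective_H1_of_small hdim φ hK.2 hsm
  have h5 : Subsingleton (Coh.HH X (kernel π) 1) := h4.subsingleton
  have h6 : Function.Surjective (hmap π 0) := fun y =>
    exact₃ (VarietyA.StalkCrit.shortExact_kernel π) 0 y (@Subsingleton.elim _ h5 _ _)
  have h7 : Nontrivial (Coh.HH X S 0) := nontrivial_HH hw hS0
  obtain ⟨z, hz⟩ := exists_ne (0 : Coh.HH X S 0)
  obtain ⟨y, rfl⟩ := h6 z
  exact hz (hmap_eq_zero_of_vanAt π hS0 hkill hv y)

/-- If moreover some section of `L ⊗ G` generates wherever `s` does then `L ⊗ G` is globally generated. -/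
theorem isGloballyGenerated_tensor [IsNoetherian X] (hdim : topologicalKrullDim X ≤ 1) (hL : PicF.IsInvertible L)
    (hG : PicF.IsInvertible G) (s : Coh.structureModule X ⟶ L)
    (hs : ∀ ξ : X, SubH1.IsGen ξ → ξ ∈ CohB1.genLocus L s) (h1 : Subsingleton (Coh.HH X G 1))
    (t : Coh.structureModule X ⟶ CohB1.tensorMod L G) (ht : CohB1.genLocus L s ≤ CohB1.genLocus _ t) :
    Curv2.IsGloballyGenerated (CohB1.tensorMod L G) := by
  have hN : PicF.IsInvertible (CohB1.tensorMod L G) := isInvertible_tensorMod hL hG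
  by_contra hcon
  obtain ⟨w, hw, hv⟩ := exists_vanAt _ hN hcon
  have h2 := ht (mem_genLocus_of_vanAt hdim hL hG s hs h1 hw hv)
  have h3 : CycB.ModStalk.IsGen (CohB1.tensorMod L G) w ((CohB1.tensorMod L G).presheaf.germ _ w h2
      (sec t (CohB1.genLocus _ t))) :=
    CycB.ModStalk.IsGenOn.isGen (fun V hV => (isGen_sec_genLocus t) V hV) w h2
  have h4 := hv (sec t ⊤)
  have h5 : (CohB1.tensorMod L G).presheaf.germ ⊤ w trivial (sec t ⊤) =
      (CohB1.tensorMod L G).presheaf.germ _ w h2 (sec t (CohB1.genLocus _ t)) := by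
    rw [← res_sec t (le_top : CohB1.genLocus _ t ≤ ⊤), germ_res']
  rw [h5] at h4
  -- a generator is not in `m • ⊤`
  have h6 : (⊤ : Submodule (X.presheaf.stalk w) ((CohB1.tensorMod L G).presheaf.stalk w)) ≤
      IsLocalRing.maximalIdeal (X.presheaf.stalk w) • ⊤ := by
    intro m _
    obtain ⟨a, rfl⟩ := h3.2 m
    exact Submodule.smul_mem _ a h4
  have hfin : (⊤ : Submodule (X.presheaf.stalk w) ((CohB1.tensorMod L G).presheaf.stalk w)).FG := by
    refine ⟨{(CohB1.tensorMod L G).presheaf.germ _ w h2 (sec t (CohB1.genLocus _ t))}, ?_⟩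
    rw [eq_top_iff]
    rintro m -
    obtain ⟨a, rfl⟩ := h3.2 m
    exact Submodule.smul_mem _ a (Submodule.subset_span (by simp))
  have h7 := Submodule.eq_bot_of_le_smul_of_le_jacobson_bot _ _ hfin h6 (IsLocalRing.maximalIdeal_le_jacobson _)
  have h8 : (1 : X.presheaf.stalk w) = 0 := by
    apply h3.1
    have h9 : ∀ m : (CohB1.tensorMod L G).presheaf.stalk w, m = 0 := fun m => by
      have : m ∈ (⊤ : Submodule (X.presheaf.stalk w) ((CohB1.tensorMod L G).presheaf.stalk w)) := trivial
      rw [h7] at this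
      exact (Submodule.mem_bot _).mp this
    exact (h9 _).trans (h9 _).symm
  exact one_ne_zero h8

end Vanishing

section Pow

variable {L : X.Modules}

/-- `H^1(L^n) = 0` for `n ≥ 1` if `H^1(L) = 0` and `L` has a section generating at the generic points. -/
theorem subsingleton_H1_pow [IsNoetherian X] (hdim : topologicalKrullDim X ≤ 1) (hL : PicF.IsInvertible L)
    (s : Coh.structureModule X ⟶ L) (hs : ∀ ξ : X, SubH1.IsGen ξ → ξ ∈ CohB1.genLocus L s)
    (h1 : Subsingleton (Coh.HH X L 1)) (n : ℕ) : Subsingleton (Coh.HH X (CohB1.tensorPow L (n + 1)) 1) := by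
  induction n with
  | zero => exact Fga.HShift.subsingleton_of_iso (Ega2.Tens.lunit L).symm 1 h1
  | succ n ih =>
    have hN : PicF.IsInvertible (CohB1.tensorMod L (CohB1.tensorPow L (n + 1))) :=
      isInvertible_tensorMod hL (isInvertible_tensorPow hL (n + 1))
    have h2 := surjective_H1_mulS hdim s hs (CohB1.tensorPow L (n + 1)) (SubPoint.isCoh_of_isInvertible hN).2
    have h3 : Subsingleton (Coh.HH X (CohB1.tensorMod L (CohB1.tensorPow L (n + 1))) 1) := h2.subsingleton
    exact Fga.HShift.subsingleton_of_iso (Ega2.Tens.swap _ _) 1 h3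

/-- `L^n` is globally generated for `n ≥ 2` if `H^1(L) = 0` and `L` has a section generating at the generic
points. -/
theorem isGloballyGenerated_pow [IsNoetherian X] (hdim : topologicalKrullDim X ≤ 1) (hL : PicF.IsInvertible L)
    (s : Coh.structureModule X ⟶ L) (hs : ∀ ξ : X, SubH1.IsGen ξ → ξ ∈ CohB1.genLocus L s)
    (h1 : Subsingleton (Coh.HH X L 1)) (n : ℕ) : Curv2.IsGloballyGenerated (CohB1.tensorPow L (n + 2)) := by
  have h := isGloballyGenerated_tensor hdim hL (isInvertible_tensorPow hL (n + 1)) s hs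
    (subsingleton_H1_pow hdim hL s hs h1 n) (Ega2.Weight.tmulHom s (Ega2.Weight.powHom s (n + 1))) (by
      rw [Ega2.Weight.genLocus_tmulHom hL (isInvertible_tensorPow hL (n + 1)),
        Ega2.Weight.genLocus_powHom_succ hL, inf_idem])
  exact Ega2.GlobGenCrit.isGloballyGenerated_of_iso (Ega2.Tens.swap _ _) h

end Pow

end K314.RegPow
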