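import Groth.Agent.Fga.RegSec
import Groth.Agent.CurvesC.DualPair
import Groth.Agent.Curves.K314.RegPow
import Groth.Agent.Ega1.GlobGenPt
import Groth.Agent.CurvesC.DegZeroSec512
import Groth.Agent.CycB.StalkLoc
import Groth.Agent.Sga67.PreLift

/-!
# `H^1(w ⊗ L) = 0` for the dualizing module `w` of a curve and a nontrivial globally generated invertible `L`
-/

set_option autoImplicit false
universe u
open CategoryTheory CategoryTheory.Limits AlgebraicGeometry TopologicalSpace Opposite

namespace K314.DualGG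

open Groth.Agent Groth.Agent.CurvesC Groth.Agent.Fga.RegSec Groth.Agent.Fdesc.LocGen Groth.Agent.CycB.StalkExact

variable {k : Type u} [Field k] {X : Scheme.{u}} [X.Over (Spec (CommRingCat.of k))]

/-- `(w, t)` a dual pair with `dim H^1(w) = 1`: a nonzero functional on `H^1(L ⊗ w)`, restricted along a section of
`L`, is a scalar multiple of `t`. -/
theorem exists_scalar {w : X.Modules} {t : HV X w 1 →ₗ[k] k} (h : IsDual w t) (hw : Coh.IsQCoh w)
    (h1 : Module.finrank k (HV X w 1) = 1) (ψ : HV X w 1 →ₗ[k] k) : ∃ c : k, ψ = c • t := by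
  have ht : t ≠ 0 := by
    intro h0
    have h2 : (𝟙 w : w ⟶ w) = 0 := by
      apply (h.bijective hw).1
      dsimp only
      rw [h0, LinearMap.zero_comp, LinearMap.zero_comp]
    have h3 : Subsingleton (HV X w 1) := by
      refine subsingleton_of_forall_eq 0 fun x => ?_
      have h4 := LinearMap.congr_fun (HV.map_id k (F := w) (X := X) 1) x
      rw [h2, HV.map_zero] at h4
      exact h4.symm
    rw [Module.finrank_zero_of_subsingleton] at h1
    exact absurd h1 (by norm_num)
  have hfin : Module.Finite k (HV X w 1) := Module.finite_of_finrank_eq_succ h1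
  have h2 : Module.finrank k (HV X w 1 →ₗ[k] k) = 1 := by
    rw [Subspace.dual_finrank_eq]
    exact h1
  obtain ⟨c, hc⟩ := (finrank_eq_one_iff_of_nonzero' t ht).1 h2 ψ
  exact ⟨c, hc.symm⟩

theorem stalk_nakayama {w : X.Modules} (hw : Coh.IsCoh w) {x : X}
    (h : (⊤ : Submodule (X.presheaf.stalk x) (w.presheaf.stalk x)) ≤
      IsLocalRing.maximalIdeal (X.presheaf.stalk x) • ⊤) : Subsingleton (w.presheaf.stalk x) := by
  have hfin := CycB.StalkLoc.finite_stalk w hw x
  have h2 := Submodule.eq_bot_of_le_smul_of_le_jacobson_bot _ _ hfin.fg_top h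
    (IsLocalRing.maximalIdeal_le_jacobson _)
  exact (Submodule.subsingleton_iff _).mp (subsingleton_of_bot_eq_top h2.symm)

/-- If a functional on `H^1(L ⊗ w)` restricts along `s` to a nonzero multiple of `t` then `s` generates `L`. -/
theorem genLocus_eq_top {w : X.Modules} {t : HV X w 1 →ₗ[k] k} (h : IsDual w t) (hw : Coh.IsCoh w)
    (hsupp : ∀ x : X, ¬ Subsingleton (w.presheaf.stalk x)) {L : X.Modules} (hL : PicF.IsInvertible L)
    (hM : Coh.IsQCoh (CohB1.tensorMod L w)) (s : Coh.structureModule X ⟶ L)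
    (ψ : HV X (CohB1.tensorMod L w) 1 →ₗ[k] k) {c : k} (hc0 : c ≠ 0)
    (hc : ψ ∘ₗ HV.map k (mulS s w) 1 = c • t) : CohB1.genLocus L s = ⊤ := by
  obtain ⟨φ, hφ, -⟩ := h _ hM (c⁻¹ • ψ)
  have hid : mulS s w ≫ φ = 𝟙 w := by
    apply (h.bijective hw.1).1
    dsimp only
    rw [HV.map_comp, ← LinearMap.comp_assoc, hφ, LinearMap.smul_comp, hc, smul_smul, inv_mul_cancel₀ hc0,
      one_smul, HV.map_id, LinearMap.comp_id]
  rw [eq_top_iff]
  intro x _
  by_contra hx
  apply hsupp x
  refine stalk_nakayama hw fun m _ => ?_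
  have h2 := RegPow.stalkLin_mulS_mem hL s w hx m
  have h3 := Submodule.mem_map_of_mem (f := stalkLin φ x) h2
  rw [Submodule.map_smul''] at h3
  have h4 := Submodule.smul_mono le_rfl le_top h3
  have h5 : stalkLin φ x (stalkLin (mulS s w) x m) = m := by
    have h6 := congrArg (fun g => stalkLin g x m) hid
    rw [stalkLin_comp, stalkLin_id] at h6
    exact h6
  rw [h5] at h4
  exact h4

theorem exists_functional {V : Type u} [AddCommGroup V] [Module k V] (h : ¬ Subsingleton V) :
    ∃ ψ : V →ₗ[k] k, ψ ≠ 0 := by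
  rw [not_subsingleton_iff_nontrivial] at h
  obtain ⟨y, hy⟩ := exists_ne (0 : V)
  by_contra hall
  push Not at hall
  exact hy ((Module.forall_dual_apply_eq_zero_iff k y).1 fun ψ => by rw [hall ψ]; rfl)

/-- `H^1(L ⊗ w) = 0` for a nontrivial globally generated invertible `L`. -/
theorem subsingleton_H1 {w : X.Modules} {t : HV X w 1 →ₗ[k] k} (h : IsDual w t) (hw : Coh.IsCoh w)
    (h1 : Module.finrank k (HV X w 1) = 1) (hsupp : ∀ x : X, ¬ Subsingleton (w.presheaf.stalk x))
    {L : X.Modules} (hL : PicF.IsInvertible L) (hgg : Curv2.IsGloballyGenerated L)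
    (hnt : IsEmpty (L ≅ Coh.structureModule X)) (hM : Coh.IsQCoh (CohB1.tensorMod L w)) :
    Subsingleton (HV X (CohB1.tensorMod L w) 1) := by
  by_contra hcon
  obtain ⟨ψ, hψ⟩ := exists_functional (k := k) hcon
  by_cases hc : ∀ s : Coh.structureModule X ⟶ L, ψ ∘ₗ HV.map k (mulS s w) 1 = 0
  · -- the morphism corresponding to `ψ` vanishes
    obtain ⟨φ, hφ, -⟩ := h _ hM ψ
    have hz : ∀ s : Coh.structureModule X ⟶ L, mulS s w ≫ φ = 0 := by
      intro s
      apply (h.bijective hw.1).1
      dsimp only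
      rw [HV.map_comp, ← LinearMap.comp_assoc, hφ, hc s, HV.map_zero, LinearMap.comp_zero]
    have hφ0 : φ = 0 := by
      refine Dcoh.StalkMod.hom_ext_stalk _ _ fun x => LinearMap.ext fun m => ?_
      obtain ⟨s, hs⟩ := Ega1.GlobGenPt.exists_mem_genLocus hL hgg x
      have h2 := isIso_stalk_mulS s w hs
      have h3 : Function.Surjective (stalkLin (mulS s w) x) :=
        ((ConcreteCategory.isIso_iff_bijective _).mp h2).2
      obtain ⟨n, rfl⟩ := h3 m
      have h4 := congrArg (fun g => stalkLin g x n) (hz s)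
      rw [stalkLin_comp, Dcoh.StalkMod.stalkLin_zero] at h4
      rw [Dcoh.StalkMod.stalkLin_zero]
      exact h4
    apply hψ
    rw [← hφ, hφ0, HV.map_zero, LinearMap.comp_zero]
  · push Not at hc
    obtain ⟨s, hs⟩ := hc
    obtain ⟨c, hc⟩ := exists_scalar h hw.1 h1 (ψ ∘ₗ HV.map k (mulS s w) 1)
    have hc0 : c ≠ 0 := by
      rintro rfl
      exact hs (by rw [hc, zero_smul])
    have htop := genLocus_eq_top h hw hsupp hL hM s ψ hc0 hc
    have := DegZeroSec512.isIso_of_genLocus_eq_top s htop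
    exact hnt.false (asIso s).symm

/-- `H^1(L ⊗ w) = 0` for an invertible `L` with a section which generates `L` at the generic points but not
everywhere. -/
theorem subsingleton_H1_of_section [IsNoetherian X] (hdim : topologicalKrullDim X ≤ 1) {w : X.Modules}
    {t : HV X w 1 →ₗ[k] k} (h : IsDual w t) (hw : Coh.IsCoh w) (h1 : Module.finrank k (HV X w 1) = 1)
    (hsupp : ∀ x : X, ¬ Subsingleton (w.presheaf.stalk x)) {L : X.Modules} (hL : PicF.IsInvertible L)
    (s : Coh.structureModule X ⟶ L)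
    (hs : ∀ ξ : X, CurvesB.SubH1.IsGen ξ → ξ ∈ CohB1.genLocus L s) (hne : CohB1.genLocus L s ≠ ⊤)
    (hM : Coh.IsCoh (CohB1.tensorMod L w)) : Subsingleton (HV X (CohB1.tensorMod L w) 1) := by
  by_contra hcon
  obtain ⟨ψ, hψ⟩ := exists_functional (k := k) hcon
  obtain ⟨c, hc⟩ := exists_scalar h hw.1 h1 (ψ ∘ₗ HV.map k (mulS s w) 1)
  by_cases hc0 : c = 0
  · apply hψ
    rw [hc0, zero_smul] at hc
    have h2 := RegPow.surjective_H1_mulS hdim s hs w hM.2
    ext y
    obtain ⟨x, hx⟩ := h2 y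
    have h3 : ψ (HV.map k (mulS s w) 1 x) = 0 := LinearMap.congr_fun hc x
    have h4 : HV.map k (mulS s w) 1 x = y := hx
    rw [h4] at h3
    exact h3
  · exact hne (genLocus_eq_top h hw hsupp hL hM.1 s ψ hc0 hc)

end K314.DualGG
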