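import Groth.Agent.CohqA.ProjDim
import Groth.Agent.CurvesC.Dim1Top
import Groth.Agent.Models.H45.FieldConst
import Groth.Agent.S1636

/-!
# Recognizing the projective line

A closed immersion of an irreducible one-dimensional scheme into `P^1_k` is an isomorphism; an integral proper
curve with `H^1(X, O_X) = 0` and an invertible module of degree one is `P^1_k`.
-/

set_option autoImplicit false
universe u
open CategoryTheory CategoryTheory.Limits AlgebraicGeometry TopologicalSpace

namespace K314.P1Recog

/-- An irreducible `T0` space of dimension one is not a single (closed) generic point. -/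
theorem not_isClosed_genericPoint {X : Type*} [TopologicalSpace X] [IrreducibleSpace X] [QuasiSober X] [T0Space X]
    (hdim : topologicalKrullDim X = 1) : ¬ IsClosed ({genericPoint X} : Set X) := by
  intro h
  have h1 : (Set.univ : Set X) = {genericPoint X} := by
    rw [← genericPoint_closure, h.closure_eq]
  have h2 : Subsingleton X := by
    refine ⟨fun a b => ?_⟩
    have ha : a ∈ ({genericPoint X} : Set X) := h1 ▸ Set.mem_univ a
    have hb : b ∈ ({genericPoint X} : Set X) := h1 ▸ Set.mem_univ b
    rw [Set.mem_singleton_iff.1 ha, Set.mem_singleton_iff.1 hb]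
  have h3 : topologicalKrullDim X ≤ 0 := by
    refine iSup_le fun p => ?_
    have hp : p.length ≤ 0 := by
      by_contra hne
      have h4 : 0 < p.length := by omega
      have h5 := p.step ⟨0, h4⟩
      have h6 : ∀ A B : IrreducibleCloseds X, A = B := by
        intro A B
        obtain ⟨a, ha⟩ := A.2.nonempty
        obtain ⟨b, hb⟩ := B.2.nonempty
        apply IrreducibleCloseds.ext
        ext z
        constructor
        · intro _
          rw [Subsingleton.elim z b]; exact hb
        · intro _
          rw [Subsingleton.elim z a]; exact ha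
      exact (ne_of_lt h5) (h6 _ _)
    exact_mod_cast hp
  rw [hdim] at h3
  exact absurd h3 (by norm_num)

/-- A closed immersion of an irreducible one-dimensional scheme into an integral scheme of dimension at most one
is an isomorphism. -/
theorem isIso_of_closedImmersion {X Y : Scheme.{u}} [IrreducibleSpace X] [IsIntegral Y]
    (hdim : topologicalKrullDim X = 1) (hY : topologicalKrullDim Y ≤ 1) (i : X ⟶ Y) [IsClosedImmersion i] :
    IsIso i := by
  have hs : Surjective i := by
    refine ⟨?_⟩
    rw [← Set.range_eq_univ]
    by_contra hne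
    have h1 : IsClosed (Set.range i) := i.isClosedEmbedding.isClosed_range
    have h2 := Groth.Agent.CurvesC.Dim1Top.isClosed_singleton_of_mem hY h1 hne ⟨genericPoint X, rfl⟩
    have h3 := h2.preimage i.continuous
    refine not_isClosed_genericPoint hdim ?_
    convert h3
    ext z
    constructor
    · intro hz
      rw [Set.mem_singleton_iff] at hz
      rw [hz]; rfl
    · intro hz
      exact i.isClosedEmbedding.injective hz
  exact isIso_of_isClosedImmersion_of_surjective i

/-- **`P^1` recognition**: an integral proper curve with `H^1(X, O_X) = 0`, `H^0(X, O_X) = k` and an invertible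
module of degree one. -/
theorem exists_iso_of_h0 (k : Type u) [Field k] (X : Scheme.{u}) [X.Over (Spec (CommRingCat.of k))]
    [IsIntegral X] [IsProper (X ↘ (Spec (CommRingCat.of k)))] (hdim : topologicalKrullDim X = 1)
    (h0 : Module.finrank k (Coh.HH X (Coh.structureModule X) 0) = 1) (hg : Curv2.genus k X = 0)
    (L : X.Modules) (hL : PicF.IsInvertible L) (hdeg : Curv2.deg k X L 1 = 1) :
    ∃ e : X ≅ CohB1.ProjSpace 1 k, e.hom ≫ CohB1.ProjSpace.toSpec 1 k = X ↘ (Spec (CommRingCat.of k)) := by
  obtain ⟨i, hi, hik, -⟩ := Groth.Agent.S1636.result k X hdim h0 hg L hL 1 one_pos (by simpa using hdeg)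
  have : IsIso i := isIso_of_closedImmersion hdim
    (by simpa using Groth.Agent.CohqA.ProjDim.topologicalKrullDim_le (n := 1) (k := k)) i
  exact ⟨asIso i, hik⟩

/-- The field of constants divides the degree. -/
theorem finrank_dvd_deg (k : Type u) [Field k] (X : Scheme.{u}) [X.Over (Spec (CommRingCat.of k))]
    [IsIntegral X] [IsProper (X ↘ (Spec (CommRingCat.of k)))] (hdim : topologicalKrullDim X = 1)
    (L : X.Modules) (n : ℕ) :
    (Module.finrank k (Coh.HH X (Coh.structureModule X) 0) : ℤ) ∣ Curv2.deg k X L n := by
  have hd : ∀ M : X.Modules, (Module.finrank k (Coh.HH X (Coh.structureModule X) 0) : ℤ) ∣ Curv2.euler k X M := by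
    intro M
    rw [Groth.Agent.CurvesC.CurveCoh.euler_eq k X hdim]
    exact dvd_sub (Int.natCast_dvd_natCast.2 (Groth.Agent.Models.H45.FieldConst.finrank_dvd_hh k X M 0))
      (Int.natCast_dvd_natCast.2 (Groth.Agent.Models.H45.FieldConst.finrank_dvd_hh k X M 1))
  exact dvd_sub (hd L) (Dvd.dvd.mul_left (hd _) _)

/-- If some module has degree prime to the others (here: one), the field of constants is `k`. -/
theorem finrank_h0_eq_one_of_dvd (k : Type u) [Field k] (X : Scheme.{u}) [X.Over (Spec (CommRingCat.of k))]
    (h : (Module.finrank k (Coh.HH X (Coh.structureModule X) 0) : ℤ) ∣ 1) :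
    Module.finrank k (Coh.HH X (Coh.structureModule X) 0) = 1 := by
  have := Int.natCast_dvd_natCast.1 (by simpa using h : ((Module.finrank k (Coh.HH X (Coh.structureModule X) 0) : ℕ) : ℤ) ∣ ((1 : ℕ) : ℤ))
  exact Nat.dvd_one.1 this

end K314.P1Recog
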