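import Groth.Agent.Grpsch.PicGrp

/-!
# Counting torsion classes of invertible modules: `PicF.Cl` versus the Picard group
-/

set_option autoImplicit false
universe u

open CategoryTheory CategoryTheory.Limits AlgebraicGeometry

namespace K314.PicCount

open Groth.Agent.Grpsch.PicGrp

theorem cl_eq_iff {Y : Scheme.{u}} (L L' : Y.Modules) : PicF.cl L = PicF.cl L' ↔ Nonempty (L ≅ L') := by
  have heq : Equivalence (fun L L' : Y.Modules => Nonempty (L ≅ L')) :=
    ⟨fun _ => ⟨Iso.refl _⟩, fun ⟨e⟩ => ⟨e.symm⟩, fun ⟨e⟩ ⟨e'⟩ => ⟨e ≪≫ e'⟩⟩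
  constructor
  · intro h
    exact Quot.eqvGen_exact h |>.rec (fun _ _ h => h) (fun _ => ⟨Iso.refl _⟩) (fun _ _ _ ⟨e⟩ => ⟨e.symm⟩)
      (fun _ _ _ _ _ ⟨e⟩ ⟨e'⟩ => ⟨e ≪≫ e'⟩)
  · intro h
    exact Quot.sound h

/-- The class in `PicF.Cl` of an element of the Picard group. -/
def toCl {X : Scheme.{u}} : Pic X → PicF.Cl X :=
  Quotient.lift (s := isoSetoid X) (fun L => PicF.cl L.1) (fun _ _ h => Quot.sound h)

theorem toCl_mk {X : Scheme.{u}} (L : X.Modules) (hL : PicF.IsInvertible L) : toCl (mk L hL) = PicF.cl L := rfl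

theorem toCl_injective {X : Scheme.{u}} : Function.Injective (toCl (X := X)) := by
  intro a b h
  induction a using ind with | _ L hL => ?_
  induction b using ind with | _ M hM => ?_
  exact (mk_eq_iff hL hM).mpr ((cl_eq_iff L M).1 h)

/-- The number of isomorphism classes of `n`-torsion invertible modules. -/
theorem card_eq (X : Scheme.{u}) (n : ℕ) :
    Nat.card {c : PicF.Cl X | ∃ M : Scheme.Modules X, PicF.cl M = c ∧ PicF.IsInvertible M ∧
      Nonempty (CohB1.tensorPow M n ≅ Coh.structureModule X)} = Nat.card {c : Pic X // c ^ n = 1} := by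
  symm
  refine Nat.card_eq_of_bijective (fun c => ⟨toCl c.1, ?_⟩) ⟨?_, ?_⟩
  · obtain ⟨c, hc⟩ := c
    induction c using ind with | _ L hL => ?_
    refine ⟨L, rfl, hL, ?_⟩
    rw [← mk_tensorPow hL n] at hc
    exact (mk_eq_one_iff _).1 hc
  · intro a b h
    exact Subtype.ext (toCl_injective (congrArg Subtype.val h))
  · rintro ⟨c, L, rfl, hL, he⟩
    refine ⟨⟨mk L hL, ?_⟩, rfl⟩
    rw [← mk_tensorPow hL n]
    exact (mk_eq_one_iff _).2 he

end K314.PicCount
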